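import Groth.Prelude.Def_HRes
import Mathlib.CategoryTheory.Abelian.GrothendieckCategory.EnoughInjectives
import Mathlib.Algebra.Homology.DerivedCategory.Ext.EnoughInjectives
import Mathlib.Algebra.Homology.DerivedCategory.Ext.ExtClass
import Mathlib.Algebra.Homology.DerivedCategory.Ext.ExactSequences

/-!
# Functoriality of the restriction maps in big-site cohomology
-/

universe w w' w'' v v' v'' u' u'' u₃ u

open CategoryTheory CategoryTheory.Limits AlgebraicGeometry Opposite

namespace Groth.Agent.HResFun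

section Generic

variable {C : Type u'} [Category.{v} C] [Abelian C] [EnoughInjectives C] [HasExt.{w} C]
  {D : Type u''} [Category.{v'} D] [Abelian D] [HasExt.{w'} D]

/-- An isomorphism to the identity commutes with the action on `Ext`. -/
theorem mapExact_id {H : C ⥤ C} [H.Additive] [PreservesFiniteLimits H] [PreservesFiniteColimits H]
    (α : H ⟶ 𝟭 C) {X Y : C} (n : ℕ) (x : Abelian.Ext.{w} X Y n) :
    (x.mapExactFunctor H).comp (Abelian.Ext.mk₀ (α.app Y)) (add_zero n) =
      (Abelian.Ext.mk₀ (α.app X)).comp x (zero_add n) := by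
  induction n generalizing Y with
  | zero =>
    obtain ⟨f, rfl⟩ := (Abelian.Ext.mk₀_bijective _ _).2 x
    rw [Abelian.Ext.mapExactFunctor_mk₀, Abelian.Ext.mk₀_comp_mk₀, Abelian.Ext.mk₀_comp_mk₀]
    exact congrArg Abelian.Ext.mk₀ (α.naturality f)
  | succ n ih =>
    let S : ShortComplex C :=
      ShortComplex.mk (Injective.ι Y) (cokernel.π (Injective.ι Y)) (cokernel.condition _)
    have hS : S.ShortExact :=
      { exact := ShortComplex.exact_of_g_is_cokernel _ (cokernelIsCokernel _) }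
    have h0 : x.comp (Abelian.Ext.mk₀ S.f) (add_zero (n + 1)) = 0 :=
      Abelian.Ext.eq_zero_of_injective _
    obtain ⟨y, rfl⟩ := Abelian.Ext.covariant_sequence_exact₁ _ hS x h0 rfl
    have hn := (hS.map_of_exact H).extClass_naturality hS
      (S.mapNatTrans α ≫ ⟨𝟙 S.X₁, 𝟙 S.X₂, 𝟙 S.X₃, by simp, by simp⟩)
    simp only [ShortComplex.mapNatTrans, ShortComplex.comp_τ₁, ShortComplex.comp_τ₃] at hn
    erw [Category.comp_id, Category.comp_id] at hn
    change ((y.comp hS.extClass rfl).mapExactFunctor H).comp (Abelian.Ext.mk₀ (α.app S.X₁)) _ = _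
    rw [Abelian.Ext.mapExactFunctor_comp, Abelian.Ext.mapExactFunctor_extClass]
    refine (Abelian.Ext.comp_assoc _ _ _ rfl (add_zero 1) (by omega)).trans ?_
    refine Eq.trans (congrArg (fun t => Abelian.Ext.comp (y.mapExactFunctor H) t
      (rfl : n + 1 = n + 1)) hn) ?_
    refine (Abelian.Ext.comp_assoc _ _ _ (add_zero n) (zero_add 1) (by omega)).symm.trans ?_
    refine (congrArg (fun t => Abelian.Ext.comp t hS.extClass (rfl : n + 1 = n + 1)) (ih y)).trans ?_
    exact Abelian.Ext.comp_assoc _ _ _ _ _ (by omega)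

variable {E : Type u₃} [Category.{v''} E] [Abelian E] [HasExt.{w''} E]

/-- A transformation to a composite functor commutes with the action on `Ext`. -/
theorem mapExact_comp {F : C ⥤ D} [F.Additive] [PreservesFiniteLimits F] [PreservesFiniteColimits F]
    {G : D ⥤ E} [G.Additive] [PreservesFiniteLimits G] [PreservesFiniteColimits G]
    {H : C ⥤ E} [H.Additive] [PreservesFiniteLimits H] [PreservesFiniteColimits H]
    (α : H ⟶ F ⋙ G) {X Y : C} (n : ℕ) (x : Abelian.Ext.{w} X Y n) :
    (x.mapExactFunctor H).comp (Abelian.Ext.mk₀ (α.app Y)) (add_zero n) =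
      (Abelian.Ext.mk₀ (α.app X)).comp ((x.mapExactFunctor F).mapExactFunctor G) (zero_add n) := by
  induction n generalizing Y with
  | zero =>
    obtain ⟨f, rfl⟩ := (Abelian.Ext.mk₀_bijective _ _).2 x
    simp only [Abelian.Ext.mapExactFunctor_mk₀]
    rw [Abelian.Ext.mk₀_comp_mk₀]
    exact (congrArg Abelian.Ext.mk₀ (α.naturality f)).trans (Abelian.Ext.mk₀_comp_mk₀ _ _).symm
  | succ n ih =>
    let S : ShortComplex C :=
      ShortComplex.mk (Injective.ι Y) (cokernel.π (Injective.ι Y)) (cokernel.condition _)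
    have hS : S.ShortExact :=
      { exact := ShortComplex.exact_of_g_is_cokernel _ (cokernelIsCokernel _) }
    have h0 : x.comp (Abelian.Ext.mk₀ S.f) (add_zero (n + 1)) = 0 :=
      Abelian.Ext.eq_zero_of_injective _
    obtain ⟨y, rfl⟩ := Abelian.Ext.covariant_sequence_exact₁ _ hS x h0 rfl
    have hn := (hS.map_of_exact H).extClass_naturality ((hS.map_of_exact F).map_of_exact G)
      (S.mapNatTrans α)
    change ((y.comp hS.extClass rfl).mapExactFunctor H).comp (Abelian.Ext.mk₀ (α.app S.X₁)) _ = _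
    rw [Abelian.Ext.mapExactFunctor_comp, Abelian.Ext.mapExactFunctor_extClass]
    refine (Abelian.Ext.comp_assoc _ _ _ rfl (add_zero 1) (by omega)).trans ?_
    refine Eq.trans (congrArg (fun t => Abelian.Ext.comp (y.mapExactFunctor H) t
      (rfl : n + 1 = n + 1)) hn) ?_
    refine (Abelian.Ext.comp_assoc _ _ _ (add_zero n) (zero_add 1) (by omega)).symm.trans ?_
    refine (congrArg (fun t => Abelian.Ext.comp t ((hS.map_of_exact F).map_of_exact G).extClass
      (rfl : n + 1 = n + 1)) (ih y)).trans ?_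
    refine (Abelian.Ext.comp_assoc _ _ _ (zero_add n) (rfl : n + 1 = n + 1) (by omega)).trans ?_
    refine congrArg (fun t => Abelian.Ext.comp _ t (zero_add (n + 1))) (Eq.symm ?_)
    refine (congrArg (fun t => Abelian.Ext.mapExactFunctor G t) ((Abelian.Ext.mapExactFunctor_comp F y hS.extClass rfl).trans
      (congrArg (fun t => Abelian.Ext.comp (y.mapExactFunctor F) t (rfl : n + 1 = n + 1))
        (Abelian.Ext.mapExactFunctor_extClass F hS)))).trans ?_
    exact (Abelian.Ext.mapExactFunctor_comp G (y.mapExactFunctor F) (hS.map_of_exact F).extClass rfl).trans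
      (congrArg (fun t => Abelian.Ext.comp _ t (rfl : n + 1 = n + 1))
        (Abelian.Ext.mapExactFunctor_extClass G (hS.map_of_exact F)))

end Generic

variable (K : Precoverage Scheme.{u})

/-- `pullConst.inv` on the sheafification unit. -/
theorem toSheafify_pullConst_inv {S T : Scheme.{u}} (f : T ⟶ S) (M : AddCommGrpCat.{u + 1}) :
    toSheafify (QuotSh.J K T) ((Functor.const (Over T)ᵒᵖ).obj M) ≫ (HRes.pullConst K f M).inv.hom =
      Functor.whiskerLeft (Over.map f).op (toSheafify (QuotSh.J K S) ((Functor.const (Over S)ᵒᵖ).obj M)) :=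
  (Over.map f).toSheafify_pullbackSheafificationCompatibility AddCommGrpCat.{u + 1}
    (QuotSh.J K T) (QuotSh.J K S) ((Functor.const _).obj M)

theorem pullConst_id (S : Scheme.{u}) (M : AddCommGrpCat.{u + 1}) :
    (HRes.pullConst K (𝟙 S) M).inv ≫
      (K.toGrothendieck.overMapPullbackId AddCommGrpCat.{u + 1} S).hom.app
        ((constantSheaf (QuotSh.J K S) AddCommGrpCat.{u + 1}).obj M) = 𝟙 _ := by
  apply Sheaf.hom_ext
  apply sheafify_hom_ext _ _ _ ((presheafToSheaf (QuotSh.J K S) AddCommGrpCat.{u + 1}).obj _).property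
  rw [ObjectProperty.FullSubcategory.comp_hom]
  refine (Category.assoc _ _ _).symm.trans ?_
  refine (congrArg (· ≫ _) (toSheafify_pullConst_inv K (𝟙 S) M)).trans ?_
  refine Eq.trans ?_ (Category.comp_id _).symm
  ext W : 2
  let η := toSheafify (QuotSh.J K S) ((Functor.const (Over S)ᵒᵖ).obj M)
  change η.app (op ((Over.map (𝟙 S)).obj W.unop)) ≫ (sheafify (QuotSh.J K S) _).map _ = η.app W
  rw [← η.naturality]
  exact Category.id_comp _

theorem pullConst_comp {S T T' : Scheme.{u}} (f : T ⟶ S) (g : T' ⟶ T) (M : AddCommGrpCat.{u + 1}) :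
    (HRes.pullConst K (g ≫ f) M).inv ≫
      (K.toGrothendieck.overMapPullbackComp AddCommGrpCat.{u + 1} g f).inv.app
        ((constantSheaf (QuotSh.J K S) AddCommGrpCat.{u + 1}).obj M) =
    (HRes.pullConst K g M).inv ≫
      (BigSite.pullBig K g AddCommGrpCat.{u + 1}).map (HRes.pullConst K f M).inv := by
  apply Sheaf.hom_ext
  let G₀ := (BigSite.pullBig K g AddCommGrpCat.{u + 1}).obj ((BigSite.pullBig K f AddCommGrpCat.{u + 1}).obj
    ((constantSheaf (QuotSh.J K S) AddCommGrpCat.{u + 1}).obj M))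
  apply sheafify_hom_ext _ _ _ G₀.property
  rw [ObjectProperty.FullSubcategory.comp_hom, ObjectProperty.FullSubcategory.comp_hom]
  refine (Category.assoc _ _ _).symm.trans ?_
  refine Eq.trans ?_ (Category.assoc _ _ _)
  refine (congrArg (· ≫ _) (toSheafify_pullConst_inv K (g ≫ f) M)).trans ?_
  refine Eq.trans ?_ (congrArg (· ≫ _) (toSheafify_pullConst_inv K g M)).symm
  ext W : 2
  let η := toSheafify (QuotSh.J K S) ((Functor.const (Over S)ᵒᵖ).obj M)
  change η.app (op ((Over.map (g ≫ f)).obj W.unop)) ≫ (sheafify (QuotSh.J K S) _).map _ = _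
  rw [← η.naturality]
  change 𝟙 M ≫ η.app _ = (toSheafify (QuotSh.J K T) ((Functor.const (Over T)ᵒᵖ).obj M) ≫
    (HRes.pullConst K f M).inv.hom).app (op ((Over.map g).obj W.unop))
  rw [toSheafify_pullConst_inv, Category.id_comp]
  rfl

theorem pull_id (S : Scheme.{u}) (F : BigSite.Ab K S) (n : ℕ) (x : BigSite.H K S F n) :
    Sheaf.H.map ((K.toGrothendieck.overMapPullbackId AddCommGrpCat.{u + 1} S).hom.app F) n
      (HRes.pull K (𝟙 S) F n x) = x := by
  rw [HRes.pull_apply, Sheaf.H.map_apply,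
    Abelian.Ext.comp_assoc _ _ _ (zero_add n) (add_zero n) (by omega)]
  refine (congrArg (fun t => Abelian.Ext.comp (Abelian.Ext.mk₀
    (HRes.pullConst K (𝟙 S) (AddCommGrpCat.of (ULift.{u + 1} ℤ))).inv) t (zero_add n))
    (mapExact_id (K.toGrothendieck.overMapPullbackId AddCommGrpCat.{u + 1} S).hom n x)).trans ?_
  refine (Abelian.Ext.mk₀_comp_mk₀_assoc _ _ _ ).trans ?_
  refine (congrArg (fun m => Abelian.Ext.comp (Abelian.Ext.mk₀ m) x (zero_add n))
    (pullConst_id K S (AddCommGrpCat.of (ULift.{u + 1} ℤ)))).trans ?_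
  exact Abelian.Ext.mk₀_id_comp x

theorem pull_comp {S T T' : Scheme.{u}} (f : T ⟶ S) (g : T' ⟶ T) (F : BigSite.Ab K S) (n : ℕ)
    (x : BigSite.H K S F n) :
    HRes.pull K (g ≫ f) F n x =
      Sheaf.H.map ((K.toGrothendieck.overMapPullbackComp AddCommGrpCat.{u + 1} g f).hom.app F) n
        (HRes.pull K g ((BigSite.pullBig K f AddCommGrpCat.{u + 1}).obj F) n (HRes.pull K f F n x)) := by
  let α := (K.toGrothendieck.overMapPullbackComp AddCommGrpCat.{u + 1} g f)
  have key : (HRes.pull K (g ≫ f) F n x).comp (Abelian.Ext.mk₀ (α.inv.app F)) (add_zero n) =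
      HRes.pull K g ((BigSite.pullBig K f AddCommGrpCat.{u + 1}).obj F) n (HRes.pull K f F n x) := by
    rw [HRes.pull_apply, HRes.pull_apply, HRes.pull_apply,
      Abelian.Ext.comp_assoc _ _ _ (zero_add n) (add_zero n) (by omega)]
    refine (congrArg (fun t => Abelian.Ext.comp (Abelian.Ext.mk₀
      (HRes.pullConst K (g ≫ f) (AddCommGrpCat.of (ULift.{u + 1} ℤ))).inv) t (zero_add n))
      (mapExact_comp (F := BigSite.pullBig K f AddCommGrpCat.{u + 1})
        (G := BigSite.pullBig K g AddCommGrpCat.{u + 1}) α.inv n x)).trans ?_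
    refine (Abelian.Ext.mk₀_comp_mk₀_assoc _ _ _).trans ?_
    rw [Abelian.Ext.mapExactFunctor_comp, Abelian.Ext.mapExactFunctor_mk₀]
    refine Eq.trans ?_ (Abelian.Ext.mk₀_comp_mk₀_assoc _ _ _).symm
    exact congrArg (fun m => Abelian.Ext.comp (Abelian.Ext.mk₀ m) _ (zero_add n))
      (pullConst_comp K f g (AddCommGrpCat.of (ULift.{u + 1} ℤ)))
  rw [← key, Sheaf.H.map_apply, Abelian.Ext.comp_assoc_of_second_deg_zero, Abelian.Ext.mk₀_comp_mk₀]
  change _ = Abelian.Ext.comp _ (Abelian.Ext.mk₀ (α.inv.app F ≫ α.hom.app F)) _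
  rw [Iso.inv_hom_id_app, Abelian.Ext.comp_mk₀_id]

end Groth.Agent.HResFun
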