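import Groth.Agent.HResFun.Basic

/-!
# Degree-zero big-site cohomology is the group of sections, compatibly with restriction
-/

universe u

open CategoryTheory CategoryTheory.Limits AlgebraicGeometry Opposite

namespace Groth.Agent.HResFun

variable (K : Precoverage Scheme.{u})

/-- Global sections: `H^0(S, F) ≃ F(S)`. -/
noncomputable abbrev h0 {S : Scheme.{u}} (F : BigSite.Ab K S) :
    BigSite.H K S F 0 ≃+ F.obj.obj (op (Over.mk (𝟙 S))) :=
  Sheaf.H.equiv₀ F Over.mkIdTerminal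

/-- The value of `h0` on the class of a morphism from the constant sheaf. -/
theorem h0_mk₀ {S : Scheme.{u}} (F : BigSite.Ab K S)
    (φ : (constantSheaf (QuotSh.J K S) AddCommGrpCat.{u + 1}).obj (AddCommGrpCat.of (ULift.{u + 1} ℤ)) ⟶ F) :
    h0 K F (Abelian.Ext.mk₀ φ) =
      ((toSheafify (QuotSh.J K S) ((Functor.const (Over S)ᵒᵖ).obj (AddCommGrpCat.of (ULift.{u + 1} ℤ))) ≫
        φ.hom).app (op (Over.mk (𝟙 S)))).hom (ULift.up 1) := by
  change (AddCommGrpCat.uliftZMultiplesAddEquiv _) (((constantSheafAdj (QuotSh.J K S) AddCommGrpCat.{u + 1}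
    Over.mkIdTerminal).homAddEquiv _ F) (Abelian.Ext.addEquiv₀ (Abelian.Ext.mk₀ φ))) = _
  rw [show Abelian.Ext.addEquiv₀ (Abelian.Ext.mk₀ φ) = φ from
    (Abelian.Ext.mk₀_bijective _ _).1 (Abelian.Ext.mk₀_addEquiv₀_apply _)]
  rfl

/-- Restriction in degree zero is restriction of sections. -/
theorem h0_pull {S T : Scheme.{u}} (f : T ⟶ S) (F : BigSite.Ab K S) (x : BigSite.H K S F 0) :
    h0 K ((BigSite.pullBig K f AddCommGrpCat.{u + 1}).obj F) (HRes.pull K f F 0 x) =
      (F.obj.map (Over.mkIdTerminal.from ((Over.map f).obj (Over.mk (𝟙 T)))).op).hom (h0 K F x) := by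
  obtain ⟨φ, rfl⟩ := (Abelian.Ext.mk₀_bijective _ _).2 x
  rw [HRes.pull_apply, Abelian.Ext.mapExactFunctor_mk₀, Abelian.Ext.mk₀_comp_mk₀, h0_mk₀, h0_mk₀]
  let M := AddCommGrpCat.of (ULift.{u + 1} ℤ)
  let W := (Over.map f).obj (Over.mk (𝟙 T))
  let ψ := toSheafify (QuotSh.J K S) ((Functor.const (Over S)ᵒᵖ).obj M) ≫ φ.hom
  have h1 : toSheafify (QuotSh.J K T) ((Functor.const (Over T)ᵒᵖ).obj M) ≫
      ((HRes.pullConst K f M).inv ≫ (BigSite.pullBig K f AddCommGrpCat.{u + 1}).map φ).hom =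
      Functor.whiskerLeft (Over.map f).op ψ := by
    rw [ObjectProperty.FullSubcategory.comp_hom]
    refine (Category.assoc _ _ _).symm.trans ?_
    exact congrArg (· ≫ _) (toSheafify_pullConst_inv K f M)
  have h2 := ψ.naturality (Over.mkIdTerminal.from W).op
  refine (congrArg (fun q => ((q).app (op (Over.mk (𝟙 T)))).hom (ULift.up (1 : ℤ))) h1).trans ?_
  exact congr(($h2).hom (ULift.up (1 : ℤ)))

/-- An object of the big site as the identity object moved along its structure morphism. -/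
noncomputable def idIso {S : Scheme.{u}} (U : Over S) : (Over.map U.hom).obj (Over.mk (𝟙 U.left)) ≅ U :=
  Over.isoMk (Iso.refl _) (by simp)

/-- `H^0(U, F) ≃ F(U)`. -/
noncomputable def ev {S : Scheme.{u}} (F : BigSite.Ab K S) (U : Over S) :
    BigSite.HU K F 0 U ≃+ BigSite.sect K F U :=
  (h0 K _).trans ((F.obj.mapIso (idIso U).op).addCommGroupIsoToAddEquiv).symm

theorem ev_apply {S : Scheme.{u}} (F : BigSite.Ab K S) (U : Over S) (x : BigSite.HU K F 0 U) :
    ev K F U x = (F.obj.map (idIso U).inv.op).hom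
      (h0 K ((BigSite.pullBig K U.hom AddCommGrpCat.{u + 1}).obj F) x) := rfl

/-- `ev` commutes with restriction. -/
theorem ev_resHU {S : Scheme.{u}} (F : BigSite.Ab K S) {U U' : Over S} (g : U' ⟶ U)
    (x : BigSite.HU K F 0 U) :
    ev K F U' (HRes.resHU K F 0 g x) = (F.obj.map g.op).hom (ev K F U x) := by
  change ev K F U' (Sheaf.H.map (HRes.pullIso K F g).hom 0 (HRes.pull K g.left _ 0 x)) = _
  rw [ev_apply, ev_apply, ← Sheaf.H.equiv₀_naturality]
  rw [h0_pull]
  simp only [← ConcreteCategory.comp_apply]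
  rw [← Functor.map_comp]
  simp only [HRes.pullIso, Iso.trans_hom, ObjectProperty.FullSubcategory.comp_hom]
  change ((F.obj.map _ ≫ (F.obj.map _ ≫ F.obj.map _)) ≫ F.obj.map _).hom _ = _
  simp only [← Functor.map_comp]
  refine congrArg (fun q => (F.obj.map q).hom _) (Quiver.Hom.unop_inj (Over.OverMorphism.ext ?_))
  simp [idIso]

end Groth.Agent.HResFun
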